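import Mathlib.RingTheory.Polynomial.Basic
import Mathlib.Algebra.Polynomial.Taylor
import Mathlib.Algebra.Polynomial.Derivative
import Mathlib.LinearAlgebra.Dimension.Constructions
import Mathlib.LinearAlgebra.Dual.Lemmas
import Mathlib.RingTheory.Coprime.Lemmas
import Mathlib.Algebra.BigOperators.Intervals
import Mathlib.Tactic.Ring
import Mathlib.Tactic.FieldSimp
import Mathlib.Tactic.LinearCombination
import Mathlib.Algebra.Polynomial.Div
import Mathlib.Algebra.Polynomial.RingDivision

/-! Vanishing orders of exact forms on the line. -/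

open Polynomial

set_option linter.style.haveILetI false

namespace Groth.L28.PolarOrders

variable {k : Type*} [Field k] {m : ℕ} (r : Fin m → k) (a : Fin m → ℕ)

/-- The reduced polar polynomial. -/
noncomputable def R : k[X] := ∏ j, (X - C (r j))

/-- The polar polynomial of the primitives. -/
noncomputable def P : k[X] := ∏ j, (X - C (r j)) ^ a j

/-- The logarithmic derivative of `P`, times `R`. -/
noncomputable def S : k[X] := ∑ i, C (a i : k) * ∏ j ∈ Finset.univ.erase i, (X - C (r j))

/-- The derivative of `Q / P`, times the polar polynomial. -/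
noncomputable def Φ : k[X] →ₗ[k] k[X] :=
  LinearMap.mulLeft k (R r) ∘ₗ derivative - LinearMap.mulLeft k (S r a)

theorem Φ_apply (Q : k[X]) : Φ r a Q = R r * derivative Q - S r a * Q := rfl

/-- The span of the one pole forms. -/
noncomputable def V (b : ℕ) : Submodule k k[X] :=
  (Polynomial.degreeLT k b).map (LinearMap.mulLeft k (∏ j, (X - C (r j)) ^ (a j + 1))) ⊔
      ⨆ i, (Polynomial.degreeLT k (a i)).map
        (LinearMap.mulLeft k (∏ j ∈ Finset.univ.erase i, (X - C (r j)) ^ (a j + 1)))

theorem derivative_prod_eq (s : Finset (Fin m)) :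
    (∏ j ∈ s, (X - C (r j))) * derivative (∏ j ∈ s, (X - C (r j)) ^ a j) =
      (∏ j ∈ s, (X - C (r j)) ^ a j) * ∑ i ∈ s, C (a i : k) * ∏ j ∈ s.erase i, (X - C (r j)) := by
  classical
  rw [derivative_prod_finset, Finset.mul_sum, Finset.mul_sum]
  refine Finset.sum_congr rfl fun i hi => ?_
  rw [derivative_X_sub_C_pow, ← Finset.mul_prod_erase s (fun j => X - C (r j)) hi,
    ← Finset.mul_prod_erase s (fun j => (X - C (r j)) ^ a j) hi]
  rcases Nat.eq_zero_or_pos (a i) with h | h
  · simp [h]
  · obtain ⟨c, hc⟩ := Nat.exists_eq_add_of_le h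
    rw [hc, Nat.add_sub_cancel_left, pow_add, pow_one]
    ring

theorem R_mul_derivative_P : R r * derivative (P r a) = P r a * S r a := derivative_prod_eq r a Finset.univ

theorem Φ_P : Φ r a (P r a) = 0 := by rw [Φ_apply, R_mul_derivative_P]; ring

theorem Φ_P_mul (Q : k[X]) : Φ r a (P r a * Q) = (∏ j, (X - C (r j)) ^ (a j + 1)) * derivative Q := by
  have h : (∏ j, (X - C (r j)) ^ (a j + 1)) = P r a * R r := by
    simp only [P, R, pow_succ, Finset.prod_mul_distrib]
  rw [Φ_apply, derivative_mul, mul_add, ← mul_assoc (R r), R_mul_derivative_P, h]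
  ring

theorem monic_P : (P r a).Monic := monic_prod_of_monic _ _ fun j _ => (monic_X_sub_C _).pow _

theorem natDegree_P : (P r a).natDegree = ∑ j, a j := by
  rw [P, natDegree_prod_of_monic _ _ fun j _ => (monic_X_sub_C _).pow _]
  simp [natDegree_X_sub_C]

instance finite_degreeLT (c : ℕ) : FiniteDimensional k (Polynomial.degreeLT k c) :=
  (Polynomial.degreeLTEquiv k c).symm.finiteDimensional

variable [CharZero k]

theorem V_le_map (b : ℕ) : V r a b ≤ (Polynomial.degreeLT k ((∑ j, a j) + b + 1)).map (Φ r a) := by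
  classical
  refine sup_le ?_ (iSup_le fun i => ?_)
  · rw [degreeLT_eq_span_X_pow, Submodule.map_span, Submodule.span_le]
    rintro _ ⟨_, hmem, rfl⟩
    obtain ⟨l, hl', rfl⟩ := Finset.mem_image.1 (Finset.mem_coe.1 hmem)
    have hl : l < b := Finset.mem_range.1 hl'
    refine ⟨P r a * (C ((l + 1 : ℕ) : k)⁻¹ * X ^ (l + 1)), ?_, ?_⟩
    · refine Polynomial.mem_degreeLT.2 (lt_of_le_of_lt degree_le_natDegree (Nat.cast_lt.2 ?_))
      refine lt_of_le_of_lt (natDegree_mul_le.trans (Nat.add_le_add (natDegree_P r a).le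
        ((natDegree_C_mul_le _ _).trans (natDegree_X_pow (R := k) (l + 1)).le))) ?_
      omega
    · rw [Φ_P_mul, derivative_C_mul, derivative_X_pow, Nat.add_sub_cancel, ← mul_assoc (C _), ← map_mul,
        inv_mul_cancel₀ (Nat.cast_ne_zero.2 (Nat.succ_ne_zero l)), map_one, one_mul]
      rfl
  · have hspan : Polynomial.degreeLT k (a i) ≤
        Submodule.span k (Set.range fun l : Fin (a i) => (X - C (r i)) ^ (l : ℕ)) := fun h hh => by
      have hs : h = ∑ l ∈ Finset.range (a i), C ((taylor (r i) h).coeff l) * (X - C (r i)) ^ l := by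
        have h2 := sum_taylor_eq h (r i)
        rcases eq_or_ne h 0 with rfl | h0
        · simp
        rw [sum_over_range' _ (by simp) (a i)] at h2
        · exact h2.symm
        · rw [natDegree_taylor]; exact (natDegree_lt_iff_degree_lt h0).2 (Polynomial.mem_degreeLT.1 hh)
      rw [hs]
      refine Submodule.sum_mem _ fun l hl => ?_
      rw [← smul_eq_C_mul]
      exact Submodule.smul_mem _ _ (Submodule.subset_span ⟨⟨l, Finset.mem_range.1 hl⟩, rfl⟩)
    refine (Submodule.map_mono hspan).trans ?_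
    rw [Submodule.map_span, Submodule.span_le]
    rintro _ ⟨_, ⟨⟨l, hl⟩, rfl⟩, rfl⟩
    let M := ∏ j ∈ Finset.univ.erase i, (X - C (r j)) ^ a j
    have hP : P r a = (X - C (r i)) ^ a i * M := (Finset.mul_prod_erase _ _ (Finset.mem_univ i)).symm
    have hc : ((l : k) - a i) ≠ 0 := sub_ne_zero.2 (Nat.cast_injective.ne hl.ne)
    refine ⟨C ((l : k) - a i)⁻¹ * ((X - C (r i)) ^ l * M), ?_, ?_⟩
    · refine Polynomial.mem_degreeLT.2 (lt_of_le_of_lt degree_le_natDegree (Nat.cast_lt.2 ?_))
      refine lt_of_le_of_lt ((natDegree_C_mul_le _ _).trans natDegree_mul_le) ?_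
      have h2 : a i + M.natDegree = ∑ j, a j := by
        rw [← natDegree_P r a, hP, (monic_X_sub_C _ |>.pow _).natDegree_mul
          (monic_prod_of_monic _ _ fun j _ => (monic_X_sub_C _).pow _), natDegree_pow, natDegree_X_sub_C, mul_one]
      rw [natDegree_pow, natDegree_X_sub_C]
      omega
    · have hM : (∏ j ∈ Finset.univ.erase i, (X - C (r j))) * derivative M =
          M * ∑ x ∈ Finset.univ.erase i, C (a x : k) * ∏ j ∈ (Finset.univ.erase i).erase x, (X - C (r j)) :=
        derivative_prod_eq r a _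
      have hR : R r = (X - C (r i)) * ∏ j ∈ Finset.univ.erase i, (X - C (r j)) :=
        (Finset.mul_prod_erase _ _ (Finset.mem_univ i)).symm
      have hS : S r a = C (a i : k) * (∏ j ∈ Finset.univ.erase i, (X - C (r j))) + (X - C (r i)) *
          ∑ x ∈ Finset.univ.erase i, C (a x : k) * ∏ j ∈ (Finset.univ.erase i).erase x, (X - C (r j)) := by
        rw [S, ← Finset.add_sum_erase _ _ (Finset.mem_univ i), Finset.mul_sum]
        refine congrArg _ (Finset.sum_congr rfl fun x hx => ?_)
        have hix : i ∈ Finset.univ.erase x := Finset.mem_erase.2 ⟨(Finset.mem_erase.1 hx).1.symm, Finset.mem_univ _⟩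
        rw [← Finset.mul_prod_erase _ _ hix, Finset.erase_right_comm]
        ring
      have hD : (∏ j ∈ Finset.univ.erase i, (X - C (r j)) ^ (a j + 1)) =
          M * ∏ j ∈ Finset.univ.erase i, (X - C (r j)) := by
        simp only [M, pow_succ, Finset.prod_mul_distrib]
      have hpow : (X - C (r i)) * derivative ((X - C (r i)) ^ l) = C (l : k) * (X - C (r i)) ^ l := by
        rcases Nat.eq_zero_or_pos l with h | h
        · simp [h]
        · obtain ⟨c, rfl⟩ := Nat.exists_eq_add_of_le h
          rw [derivative_X_sub_C_pow, Nat.add_sub_cancel_left, pow_add, pow_one]; ring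
      have key : Φ r a ((X - C (r i)) ^ l * M) =
          C ((l : k) - a i) * (M * (∏ j ∈ Finset.univ.erase i, (X - C (r j))) * (X - C (r i)) ^ l) := by
        rw [Φ_apply, hR, hS, derivative_mul, map_sub]
        linear_combination (∏ j ∈ Finset.univ.erase i, (X - C (r j))) * M * hpow +
          (X - C (r i)) * (X - C (r i)) ^ l * hM
      rw [← smul_eq_C_mul, map_smul, key, smul_eq_C_mul, ← mul_assoc, ← map_mul, inv_mul_cancel₀ hc, map_one,
        one_mul, ← hD]
      rfl

theorem le_finrank_V (hr : Function.Injective r) (b : ℕ) : (∑ j, a j) + b ≤ Module.finrank k (V r a b) := by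
  classical
  let L : (Polynomial.degreeLT k b × Π i, Polynomial.degreeLT k (a i)) →ₗ[k] k[X] :=
    (LinearMap.mulLeft k (∏ j, (X - C (r j)) ^ (a j + 1)) ∘ₗ Submodule.subtype _).coprod
      (∑ i, LinearMap.mulLeft k (∏ j ∈ Finset.univ.erase i, (X - C (r j)) ^ (a j + 1)) ∘ₗ
        Submodule.subtype _ ∘ₗ LinearMap.proj i)
  have hL : Function.Injective L := by
    rw [← LinearMap.ker_eq_bot, _root_.eq_bot_iff]
    rintro ⟨f, g⟩ hfg
    simp only [LinearMap.mem_ker, L, LinearMap.coprod_apply, LinearMap.comp_apply, LinearMap.mulLeft_apply,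
      Submodule.subtype_apply, LinearMap.sum_apply, LinearMap.proj_apply] at hfg
    have hg : ∀ i, g i = 0 := fun i => by
      have hd : ∀ x, x ∈ Finset.univ → x ≠ i → (X - C (r i)) ^ (a i + 1) ∣
          (∏ j ∈ Finset.univ.erase x, (X - C (r j)) ^ (a j + 1)) * (g x : k[X]) := fun x _ hx =>
        (Finset.dvd_prod_of_mem (fun j => (X - C (r j)) ^ (a j + 1))
          (Finset.mem_erase.2 ⟨hx.symm, Finset.mem_univ i⟩)).mul_right _
      rw [← Finset.add_sum_erase _ _ (Finset.mem_univ i)] at hfg
      have h1 : (X - C (r i)) ^ (a i + 1) ∣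
          (∏ j ∈ Finset.univ.erase i, (X - C (r j)) ^ (a j + 1)) * (g i : k[X]) := by
        rw [← dvd_add_left (Finset.dvd_sum fun x hx => hd x (Finset.mem_univ x) (Finset.mem_erase.1 hx).1)]
        rw [eq_neg_of_add_eq_zero_right hfg, dvd_neg]
        exact (Finset.dvd_prod_of_mem (fun j => (X - C (r j)) ^ (a j + 1)) (Finset.mem_univ i)).mul_right _
      have h2 := IsCoprime.dvd_of_dvd_mul_left (IsCoprime.prod_right fun j hj =>
        (Polynomial.pairwise_coprime_X_sub_C hr (Finset.mem_erase.1 hj).1.symm).pow) h1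
      refine Subtype.ext (eq_zero_of_dvd_of_degree_lt h2 ?_)
      refine lt_of_lt_of_le (Polynomial.mem_degreeLT.1 (g i).2) ?_
      rw [degree_pow, degree_X_sub_C, nsmul_one]
      exact_mod_cast Nat.le_succ (a i)
    have hf : f = 0 := by
      simp only [hg, ZeroMemClass.coe_zero, mul_zero, Finset.sum_const_zero, add_zero] at hfg
      exact Subtype.ext ((mul_eq_zero.1 hfg).resolve_left
        (monic_prod_of_monic _ _ fun j _ => (monic_X_sub_C _).pow _).ne_zero)
    rw [Submodule.mem_bot]
    exact Prod.ext hf (funext hg)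
  have hle : LinearMap.range L ≤ V r a b := by
    rintro _ ⟨⟨f, g⟩, rfl⟩
    simp only [L, LinearMap.coprod_apply, LinearMap.sum_apply, LinearMap.comp_apply]
    exact Submodule.add_mem_sup ⟨_, f.2, rfl⟩
      (Submodule.sum_mem _ fun i _ => Submodule.mem_iSup_of_mem i ⟨_, (g i).2, rfl⟩)
  haveI : FiniteDimensional k (V r a b) := Submodule.finiteDimensional_of_le (V_le_map r a b)
  have := Submodule.finrank_mono hle
  rw [LinearMap.finrank_range_of_inj hL, Module.finrank_prod, Module.finrank_pi_fintype] at this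
  have hdim : ∀ c, Module.finrank k (Polynomial.degreeLT k c) = c := fun c => by
    rw [(Polynomial.degreeLTEquiv k c).finrank_eq, Module.finrank_fin_fun]
  simp only [hdim] at this
  omega

theorem V_eq (hr : Function.Injective r) (b : ℕ) :
    V r a b = (Polynomial.degreeLT k ((∑ j, a j) + b + 1)).map (Φ r a) := by
  refine Submodule.eq_of_le_of_finrank_le (V_le_map r a b) (le_trans ?_ (le_finrank_V r a hr b))
  let T := Polynomial.degreeLT k ((∑ j, a j) + b + 1)
  haveI : FiniteDimensional k T := (Polynomial.degreeLTEquiv k _).symm.finiteDimensional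
  have hPT : P r a ∈ T := Polynomial.mem_degreeLT.2 (lt_of_le_of_lt degree_le_natDegree
    (Nat.cast_lt.2 (by rw [natDegree_P]; omega)))
  have h := LinearMap.finrank_range_add_finrank_ker ((Φ r a).comp T.subtype)
  rw [LinearMap.range_comp, Submodule.range_subtype] at h
  have hk : 0 < Module.finrank k (LinearMap.ker ((Φ r a).comp T.subtype)) := by
    refine Nat.pos_of_ne_zero fun h0 => (monic_P r a).ne_zero ?_
    have hz : (⟨P r a, hPT⟩ : T) ∈ LinearMap.ker ((Φ r a).comp T.subtype) := Φ_P r a
    rw [Submodule.finrank_eq_zero.1 h0, Submodule.mem_bot] at hz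
    exact congrArg Subtype.val hz
  have hT : Module.finrank k T = (∑ j, a j) + b + 1 := by
    rw [(Polynomial.degreeLTEquiv k _).finrank_eq, Module.finrank_fin_fun]
  have h' : Module.finrank k ↥(Submodule.map (Φ r a) T) +
      Module.finrank k (LinearMap.ker ((Φ r a).comp T.subtype)) = (∑ j, a j) + b + 1 := h.trans hT
  show Module.finrank k ↥(Submodule.map (Φ r a) T) ≤ _
  omega

/-- A triangular family computing a filtration on a subspace. -/
structure Adapted (W : Submodule k k[X]) (O : Finset ℕ) (Fil : ℕ → Submodule k k[X]) where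
  e : ℕ → k[X]
  c : ℕ → k[X] →ₗ[k] k
  mem_W : ∀ s ∈ O, e s ∈ W
  tri : ∀ s ∈ O, ∀ t, t < s → c t (e s) = 0
  ne : ∀ s ∈ O, c s (e s) ≠ 0
  span : W ≤ Submodule.span k (e '' O)
  fil : ∀ h ∈ W, ∀ n, h ∈ Fil n ↔ ∀ t, t < n → c t h = 0

namespace Adapted

variable {W : Submodule k k[X]} {O : Finset ℕ} {Fil : ℕ → Submodule k k[X]} (A : Adapted W O Fil)
include A

omit [CharZero k] in
theorem coeff_zero (x : ℕ → k) (n : ℕ) (h : ∀ t, t < n → A.c t (∑ s ∈ O, x s • A.e s) = 0) :
    ∀ s ∈ O, s < n → x s = 0 := by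
  intro s
  induction s using Nat.strong_induction_on with
  | _ s ih =>
    intro hs hsn
    have := h s hsn
    rw [map_sum, Finset.sum_eq_single s] at this
    · rw [map_smul, smul_eq_mul, mul_eq_zero] at this
      exact this.resolve_right (A.ne s hs)
    · intro s' hs' hne
      rcases lt_or_gt_of_ne hne with hlt | hgt
      · rw [ih s' hlt hs' (hlt.trans hsn), zero_smul, map_zero]
      · rw [map_smul, A.tri s' hs' s hgt, smul_zero]
    · exact fun hn => absurd hs hn

omit [CharZero k] in
theorem linearIndepOn : LinearIndepOn k A.e (O : Set ℕ) := by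
  rw [linearIndepOn_finset_iff]
  intro g hg s hs
  exact A.coeff_zero g (s + 1) (fun t _ => by rw [hg, map_zero]) s hs (Nat.lt_succ_self s)

omit [CharZero k] in
theorem inf_eq (n : ℕ) : W ⊓ Fil n = Submodule.span k (A.e '' (O.filter (n ≤ ·) : Finset ℕ)) := by
  classical
  refine le_antisymm (fun h hh => ?_) (Submodule.span_le.2 ?_)
  · obtain ⟨y, hy⟩ := (Submodule.mem_span_image_finset_iff_exists_fun' k).1 (A.span hh.1)
    have hz := A.coeff_zero y n (fun t ht => by rw [hy]; exact (A.fil h hh.1 n).1 hh.2 t ht)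
    rw [← hy, ← Finset.sum_filter_add_sum_filter_not O (n ≤ ·), Finset.sum_eq_zero (s := O.filter fun s => ¬ n ≤ s)
      fun s hs => by rw [hz s (Finset.mem_filter.1 hs).1 (not_le.1 (Finset.mem_filter.1 hs).2), zero_smul], add_zero]
    exact Submodule.sum_mem _ fun s hs => Submodule.smul_mem _ _ (Submodule.subset_span ⟨s, hs, rfl⟩)
  · rintro _ ⟨s, hs, rfl⟩
    obtain ⟨hsO, hns⟩ := Finset.mem_filter.1 (Finset.mem_coe.1 hs)
    exact ⟨A.mem_W s hsO, (A.fil _ (A.mem_W s hsO) n).2 fun t ht => A.tri s hsO t (lt_of_lt_of_le ht hns)⟩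

omit [CharZero k] in
theorem finrank_inf (n : ℕ) : Module.finrank k ↥(W ⊓ Fil n) = (O.filter (n ≤ ·)).card := by
  rw [A.inf_eq n, Set.image_eq_range]
  refine (finrank_span_eq_card ?_).trans (Fintype.card_coe _)
  exact A.linearIndepOn.mono (Finset.coe_subset.2 (Finset.filter_subset _ _))

omit [CharZero k] in
theorem finrank_eq : Module.finrank k W = O.card := by
  have h := A.finrank_inf 0
  rwa [inf_eq_left.2 (fun x hx => (A.fil x hx 0).2 fun t ht => absurd ht t.not_lt_zero),
    Finset.filter_true_of_mem fun s _ => Nat.zero_le s] at h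

omit [CharZero k] in
/-- The orders of a hyperplane miss one order `o`. -/
theorem sum_hyperplane (W₁ : Submodule k k[X]) (h₁ : W₁ ≤ W) (hdim : Module.finrank k W₁ + 1 = O.card)
    (d : ℕ) (hd : ∀ s ∈ O, s ≤ d) :
    ∃ o ∈ O, (∑ n ∈ Finset.range d, Module.finrank k ↥(W₁ ⊓ Fil (n + 1))) + o = ∑ s ∈ O, s ∧
      (∀ n, ¬ W ⊓ Fil n ≤ W₁ → n ≤ o) ∧ (∀ n, W ⊓ Fil n ≤ W₁ → o < n) := by
  classical
  have hle : ∀ n, W ⊓ Fil n = Submodule.span k (A.e '' (O.filter (n ≤ ·) : Finset ℕ)) := A.inf_eq
  haveI : FiniteDimensional k (Submodule.span k (A.e '' (O : Set ℕ))) :=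
    FiniteDimensional.span_of_finite k (O.finite_toSet.image _)
  haveI : FiniteDimensional k W := Submodule.finiteDimensional_of_le A.span
  have hex : (O.filter fun s => A.e s ∉ W₁).Nonempty := by
    by_contra hne
    rw [Finset.not_nonempty_iff_eq_empty, Finset.filter_eq_empty_iff] at hne
    have hW : W ≤ W₁ := A.span.trans (Submodule.span_le.2 (by rintro _ ⟨s, hs, rfl⟩; exact not_not.1 (hne hs)))
    haveI : FiniteDimensional k W₁ := Submodule.finiteDimensional_of_le h₁
    have := Submodule.finrank_mono hW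
    rw [A.finrank_eq] at this
    omega
  let o := (O.filter fun s => A.e s ∉ W₁).max' hex
  obtain ⟨hoO, ho⟩ := Finset.mem_filter.1 (Finset.max'_mem _ hex)
  have hmax : ∀ s ∈ O, o < s → A.e s ∈ W₁ := fun s hs hlt => by
    by_contra hn
    exact absurd (Finset.le_max' _ s (Finset.mem_filter.2 ⟨hs, hn⟩)) (not_le.2 hlt)
  have hsup : W₁ ⊔ Submodule.span k {A.e o} = W := by
    refine Submodule.eq_of_le_of_finrank_le (sup_le h₁ ((Submodule.span_singleton_le_iff_mem _ _).2 (A.mem_W o hoO))) ?_
    haveI : FiniteDimensional k W₁ := Submodule.finiteDimensional_of_le h₁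
    have hlt : W₁ < W₁ ⊔ Submodule.span k {A.e o} :=
      lt_of_le_not_ge le_sup_left fun h => ho (h (Submodule.mem_sup_right (Submodule.mem_span_singleton_self _)))
    have := Submodule.finrank_lt_finrank_of_lt hlt
    rw [A.finrank_eq]
    omega
  have hrank : ∀ n, Module.finrank k ↥(W₁ ⊓ Fil n) + (if n ≤ o then 1 else 0) = (O.filter (n ≤ ·)).card := fun n => by
    rw [← A.finrank_inf n]
    split_ifs with hn
    · have heq : (W₁ ⊓ Fil n) ⊔ Submodule.span k {A.e o} = W ⊓ Fil n := by
        have hoF : A.e o ∈ Fil n := (A.fil _ (A.mem_W o hoO) n).2 fun t ht => A.tri o hoO t (lt_of_lt_of_le ht hn)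
        refine le_antisymm (sup_le (inf_le_inf_right _ h₁) ((Submodule.span_singleton_le_iff_mem _ _).2
          ⟨A.mem_W o hoO, hoF⟩)) fun x hx => ?_
        have hxs : x ∈ W₁ ⊔ Submodule.span k {A.e o} := hsup.symm ▸ hx.1
        obtain ⟨y, hy, z, hz, rfl⟩ := Submodule.mem_sup.1 hxs
        obtain ⟨c, rfl⟩ := Submodule.mem_span_singleton.1 hz
        refine Submodule.add_mem_sup ⟨hy, ?_⟩ hz
        have := (Fil n).sub_mem hx.2 ((Fil n).smul_mem c hoF)
        rwa [add_sub_cancel_right] at this
      rw [← heq]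
      haveI : FiniteDimensional k ↥(W₁ ⊓ Fil n) := Submodule.finiteDimensional_of_le (inf_le_left.trans h₁)
      have h2 := Submodule.finrank_sup_add_finrank_inf_eq (W₁ ⊓ Fil n) (Submodule.span k {A.e o})
      have h0 : (W₁ ⊓ Fil n) ⊓ Submodule.span k {A.e o} = ⊥ := by
        rw [_root_.eq_bot_iff]
        rintro x ⟨hx, hx'⟩
        obtain ⟨c, rfl⟩ := Submodule.mem_span_singleton.1 hx'
        rcases eq_or_ne c 0 with rfl | hc
        · simp
        · exact absurd ((Submodule.smul_mem_iff _ hc).1 hx.1) ho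
      have he : A.e o ≠ 0 := fun h => A.ne o hoO (by rw [h, map_zero])
      rw [h0, finrank_bot, finrank_span_singleton he] at h2
      omega
    · rw [add_zero]
      refine congrArg (fun M : Submodule k k[X] => Module.finrank k M) (le_antisymm (inf_le_inf_right _ h₁) (le_inf ?_ inf_le_right))
      rw [hle]
      refine Submodule.span_le.2 ?_
      rintro _ ⟨s, hs, rfl⟩
      obtain ⟨hsO, hns⟩ := Finset.mem_filter.1 (Finset.mem_coe.1 hs)
      exact hmax s hsO (lt_of_lt_of_le (not_le.1 hn) hns)
  refine ⟨o, hoO, ?_, fun n hn => ?_, fun n hn => ?_⟩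
  · have h1 : ∀ s, s ≤ d → (∑ n ∈ Finset.range d, if n + 1 ≤ s then 1 else 0) = s := fun s hs => by
      rw [← Finset.card_filter, show (Finset.range d).filter (fun n => n + 1 ≤ s) = Finset.range s by
        ext n; simp; omega, Finset.card_range]
    have h2 : ∑ n ∈ Finset.range d, (O.filter (n + 1 ≤ ·)).card = ∑ s ∈ O, s := by
      simp only [Finset.card_filter]
      rw [Finset.sum_comm]
      exact Finset.sum_congr rfl fun s hs => h1 s (hd s hs)
    rw [← h2, Finset.sum_congr rfl fun n _ => (hrank (n + 1)).symm, Finset.sum_add_distrib, h1 o (hd o hoO)]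
  · by_contra h
    refine hn ?_
    rw [hle]
    refine Submodule.span_le.2 ?_
    rintro _ ⟨s, hs, rfl⟩
    obtain ⟨hsO, hns⟩ := Finset.mem_filter.1 (Finset.mem_coe.1 hs)
    exact hmax s hsO (lt_of_lt_of_le (not_le.1 h) hns)
  · by_contra h
    exact ho (hn ⟨A.mem_W o hoO, (A.fil _ (A.mem_W o hoO) n).2 fun t ht => A.tri o hoO t (lt_of_lt_of_le ht (not_lt.1 h))⟩)

end Adapted

theorem card_filter_erase (N e n : ℕ) (he : e ≤ N) :
    (((Finset.range (N + 1)).erase e).filter (n ≤ ·)).card = if n ≤ e then N - n else N + 1 - n := by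
  have hI : (Finset.range (N + 1)).filter (n ≤ ·) = Finset.Ico n (N + 1) := by
    ext; simp; omega
  rw [Finset.filter_erase, hI]
  split_ifs with h
  · rw [Finset.card_erase_of_mem (by simp; omega), Nat.card_Ico]; omega
  · rw [Finset.erase_eq_of_notMem (by simp; omega), Nat.card_Ico]

theorem sum_erase_range (N e : ℕ) (he : e ≤ N) (hN : 1 ≤ N) :
    (∑ s ∈ (Finset.range (N + 1)).erase e, s) + e + 1 = (N - 1).choose 2 + 2 * N := by
  rw [Finset.sum_erase_add _ _ (Finset.mem_range.2 (Nat.lt_succ_of_le he))]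
  obtain ⟨M, rfl⟩ := Nat.exists_eq_add_of_le' hN
  rw [Finset.sum_range_succ, Finset.sum_range_succ, Finset.sum_range_id, Nat.add_sub_cancel, Nat.choose_two_right]
  omega

/-- The coefficients at a point. -/
noncomputable def cAt (x : k) (t : ℕ) : k[X] →ₗ[k] k := lcoeff k t ∘ₗ taylor x

omit [CharZero k] in
theorem mem_span_pow_iff (x : k) (h : k[X]) (n : ℕ) :
    h ∈ (Ideal.span {(X - C x) ^ n}).restrictScalars k ↔ ∀ t, t < n → cAt x t h = 0 := by
  rw [Submodule.restrictScalars_mem, Ideal.mem_span_singleton]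
  constructor
  · rintro ⟨u, rfl⟩ t ht
    show (taylor x ((X - C x) ^ n * u)).coeff t = 0
    rw [taylor_mul, taylor_pow, map_sub, taylor_X, taylor_C, add_sub_cancel_right, coeff_X_pow_mul', if_neg (by omega)]
  · intro hh
    obtain ⟨u, hu⟩ := (Polynomial.X_pow_dvd_iff (f := taylor x h)).2 hh
    refine ⟨taylor (-x) u, ?_⟩
    have := congrArg (taylor (-x)) hu
    rw [taylor_taylor, neg_add_cancel, taylor_zero, taylor_mul, taylor_pow, taylor_X, map_neg, ← sub_eq_add_neg] at this
    exact this

omit [CharZero k] in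
theorem R_eval_ne (p : k) (hp : ∀ j, p ≠ r j) : (R r).eval p ≠ 0 := by
  rw [R, eval_prod]
  exact Finset.prod_ne_zero_iff.2 fun j _ => by simpa [sub_eq_zero] using hp j

omit [CharZero k] in
theorem S_eval_point (i : Fin m) :
    (S r a).eval (r i) = a i * (∏ j ∈ Finset.univ.erase i, (X - C (r j))).eval (r i) := by
  classical
  rw [S, eval_finsetSum, Finset.sum_eq_single i, eval_mul, eval_C]
  · intro x _ hx
    rw [eval_mul, eval_prod, Finset.prod_eq_zero (Finset.mem_erase.2 ⟨hx.symm, Finset.mem_univ i⟩) (by simp), mul_zero]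
  · simp

theorem point_coeff (hr : Function.Injective r) (i : Fin m) (s : ℕ) :
    (∀ t, t < s → cAt (r i) t (Φ r a ((X - C (r i)) ^ s)) = 0) ∧
      (s ≠ a i → cAt (r i) s (Φ r a ((X - C (r i)) ^ s)) ≠ 0) := by
  classical
  let Ri := ∏ j ∈ Finset.univ.erase i, (X - C (r j))
  have hR : R r = (X - C (r i)) * Ri := (Finset.mul_prod_erase _ _ (Finset.mem_univ i)).symm
  have e : Φ r a ((X - C (r i)) ^ s) = (X - C (r i)) ^ s * (C (s : k) * Ri - S r a) := by
    rw [Φ_apply, hR, derivative_X_sub_C_pow]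
    rcases Nat.eq_zero_or_pos s with h | h
    · subst h; simp
    · obtain ⟨c, rfl⟩ := Nat.exists_eq_add_of_le h
      rw [Nat.add_sub_cancel_left, pow_add, pow_one]; ring
  have hc : ∀ t, cAt (r i) t (Φ r a ((X - C (r i)) ^ s)) =
      (if s ≤ t then (taylor (r i) (C (s : k) * Ri - S r a)).coeff (t - s) else 0) := fun t => by
    show (taylor (r i) (Φ r a _)).coeff t = _
    rw [e, taylor_mul, taylor_pow, map_sub (taylor (r i)) X, taylor_X, taylor_C, add_sub_cancel_right, coeff_X_pow_mul']
  refine ⟨fun t ht => by rw [hc, if_neg (by omega)], fun hs => ?_⟩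
  rw [hc, if_pos le_rfl, Nat.sub_self, taylor_coeff_zero, eval_sub, eval_mul, eval_C, S_eval_point, ← sub_mul]
  refine mul_ne_zero (sub_ne_zero.2 (by exact_mod_cast hs)) ?_
  simp only [Ri, eval_prod, eval_sub, eval_X, eval_C]
  exact Finset.prod_ne_zero_iff.2 fun j hj => sub_ne_zero.2 fun h => (Finset.mem_erase.1 hj).1 (hr h).symm

omit [CharZero k] in
theorem degreeLT_le_span (x : k) (c : ℕ) :
    Polynomial.degreeLT k c ≤ Submodule.span k ((fun s => (X - C x) ^ s) '' (Finset.range c : Finset ℕ)) := fun h hh => by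
  rcases eq_or_ne h 0 with rfl | h0
  · exact zero_mem _
  have h2 := sum_taylor_eq h x
  rw [sum_over_range' _ (by simp) c] at h2
  · rw [← h2]
    refine Submodule.sum_mem _ fun l hl => ?_
    rw [← smul_eq_C_mul]
    exact Submodule.smul_mem _ _ (Submodule.subset_span ⟨l, hl, rfl⟩)
  · rw [natDegree_taylor]; exact (natDegree_lt_iff_degree_lt h0).2 (Polynomial.mem_degreeLT.1 hh)

omit [CharZero k] in
theorem map_le_span_erase (Q : ℕ → k[X]) (N e : ℕ) (T : Submodule k k[X]) (P₀ : k[X])
    (hT : T ≤ Submodule.span k (Q '' (Finset.range (N + 1) : Finset ℕ)))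
    (Φ₀ : k[X] →ₗ[k] k[X]) (hP : Φ₀ P₀ = 0) (c : ℕ → k) (hsum : P₀ = ∑ s ∈ Finset.range (N + 1), c s • Q s)
    (he : e ≤ N) (hce : c e ≠ 0) :
    T.map Φ₀ ≤ Submodule.span k ((fun s => Φ₀ (Q s)) '' ((Finset.range (N + 1)).erase e : Finset ℕ)) := by
  classical
  refine (Submodule.map_mono hT).trans ?_
  rw [Submodule.map_span, Submodule.span_le]
  rintro _ ⟨_, ⟨s, hs, rfl⟩, rfl⟩
  by_cases hse : s = e
  · subst hse
    have h := congrArg Φ₀ hsum
    rw [hP, ← Finset.add_sum_erase _ _ (Finset.mem_range.2 (Nat.lt_succ_of_le he)), map_add, map_sum, map_smul,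
      eq_comm, add_eq_zero_iff_eq_neg] at h
    rw [SetLike.mem_coe, ← Submodule.smul_mem_iff _ hce, h]
    exact Submodule.neg_mem _ (Submodule.sum_mem _ fun t ht => by
      rw [map_smul]; exact Submodule.smul_mem _ _ (Submodule.subset_span ⟨t, ht, rfl⟩))
  · exact Submodule.subset_span ⟨s, Finset.mem_erase.2 ⟨hse, hs⟩, rfl⟩

/-- The orders at a finite marked point. -/
noncomputable def adaptedAt (hr : Function.Injective r) (b N : ℕ) (hN : N = (∑ j, a j) + b) (i : Fin m) :
    Adapted (V r a b) ((Finset.range (N + 1)).erase (a i))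
      (fun n => (Ideal.span {(X - C (r i)) ^ n}).restrictScalars k) where
  e s := Φ r a ((X - C (r i)) ^ s)
  c := cAt (r i)
  mem_W s hs := by
    rw [V_eq r a hr b]
    refine ⟨_, Polynomial.mem_degreeLT.2 ?_, rfl⟩
    rw [degree_pow, degree_X_sub_C, nsmul_one]
    have := Finset.mem_range.1 (Finset.mem_erase.1 hs).2
    exact_mod_cast (show s < (∑ j, a j) + b + 1 by omega)
  tri s _ t ht := (point_coeff r a hr i s).1 t ht
  ne s hs := (point_coeff r a hr i s).2 (Finset.mem_erase.1 hs).1
  span := by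
    classical
    rw [V_eq r a hr b, ← hN]
    have hai : a i ≤ N := by
      have := Finset.single_le_sum (f := a) (fun j _ => Nat.zero_le _) (Finset.mem_univ i); omega
    have hdeg : (taylor (r i) (P r a)).natDegree < N + 1 := by rw [natDegree_taylor, natDegree_P]; omega
    have hsum : P r a = ∑ s ∈ Finset.range (N + 1), (taylor (r i) (P r a)).coeff s • (X - C (r i)) ^ s := by
      have h2 := sum_taylor_eq (P r a) (r i)
      rw [sum_over_range' _ (by simp) (N + 1) hdeg] at h2
      simp only [smul_eq_C_mul]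
      exact h2.symm
    refine map_le_span_erase _ N (a i) _ _ (degreeLT_le_span (r i) (N + 1)) (Φ r a) (Φ_P r a) _ hsum hai ?_
    rw [P, ← Finset.mul_prod_erase _ _ (Finset.mem_univ i), taylor_mul, taylor_pow, map_sub, taylor_X, taylor_C,
      add_sub_cancel_right, coeff_X_pow_mul', if_pos le_rfl, Nat.sub_self, taylor_coeff_zero, eval_prod]
    refine Finset.prod_ne_zero_iff.2 fun j hj => ?_
    rw [eval_pow, eval_sub, eval_X, eval_C]
    exact pow_ne_zero _ (sub_ne_zero.2 fun h => (Finset.mem_erase.1 hj).1 (hr h).symm)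
  fil h _ n := mem_span_pow_iff (r i) h n

omit [CharZero k] in
theorem monic_R : (R r).Monic := monic_prod_of_monic _ _ fun j _ => monic_X_sub_C _

omit [CharZero k] in
theorem natDegree_R : (R r).natDegree = m := by
  rw [R, natDegree_prod_of_monic _ _ fun j _ => monic_X_sub_C _]; simp [natDegree_X_sub_C]

theorem inf_coeff (u t : ℕ) (ht : u + m ≤ t + 1) :
    (Φ r a (X ^ u)).coeff t = if t + 1 = u + m then (u : k) - ∑ j, (a j : k) else 0 := by
  classical
  have hA : (R r * derivative (X ^ u)).coeff t = if t + 1 = u + m then (u : k) else 0 := by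
    rw [derivative_X_pow, show R r * (C (u : k) * X ^ (u - 1)) = C (u : k) * (R r * X ^ (u - 1)) by ring, coeff_C_mul,
      coeff_mul_X_pow']
    rcases Nat.eq_zero_or_pos u with h | h
    · subst h; simp
    rw [if_pos (by omega)]
    split_ifs with he
    · rw [show t - (u - 1) = (R r).natDegree by rw [natDegree_R]; omega, (monic_R r).coeff_natDegree, mul_one]
    · rw [coeff_eq_zero_of_natDegree_lt (by rw [natDegree_R]; omega), mul_zero]
  have hB : ∀ i, ((∏ j ∈ Finset.univ.erase i, (X - C (r j))) * X ^ u).coeff t = if t + 1 = u + m then 1 else 0 := by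
    intro i
    have hm' : 0 < m := Nat.lt_of_le_of_lt (Nat.zero_le _) i.2
    rw [coeff_mul_X_pow', if_pos (by omega)]
    have hd : (∏ j ∈ Finset.univ.erase i, (X - C (r j))).natDegree = m - 1 := by
      rw [natDegree_prod_of_monic _ _ fun j _ => monic_X_sub_C _]; simp [natDegree_X_sub_C]
    have hmon : (∏ j ∈ Finset.univ.erase i, (X - C (r j))).Monic := monic_prod_of_monic _ _ fun j _ => monic_X_sub_C _
    split_ifs with he
    · rw [show t - u = (∏ j ∈ Finset.univ.erase i, (X - C (r j))).natDegree by omega, hmon.coeff_natDegree]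
    · rw [coeff_eq_zero_of_natDegree_lt (by omega)]
  rw [Φ_apply, coeff_sub, hA, S, Finset.sum_mul, finsetSum_coeff]
  simp only [mul_assoc, coeff_C_mul, hB]
  split_ifs <;> simp

/-- The orders at infinity. -/
noncomputable def adaptedInf (hr : Function.Injective r) (b N d : ℕ) (hN : N = (∑ j, a j) + b)
    (hd : d + 1 = N + m) : Adapted (V r a b) ((Finset.range (N + 1)).erase b)
      (fun n => Polynomial.degreeLT k (d + 1 - n)) where
  e s := Φ r a (X ^ (N - s))
  c t := if t ≤ d then lcoeff k (d - t) else 0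
  mem_W s hs := by
    rw [V_eq r a hr b]
    refine ⟨_, Polynomial.mem_degreeLT.2 ?_, rfl⟩
    rw [degree_X_pow]
    exact_mod_cast (show N - s < (∑ j, a j) + b + 1 by omega)
  tri s hs t ht := by
    have := Finset.mem_range.1 (Finset.mem_erase.1 hs).2
    split_ifs with h
    · rw [lcoeff_apply, inf_coeff r a (N - s) (d - t) (by omega), if_neg (by omega)]
    · rfl
  ne s hs := by
    obtain ⟨hsb, hs⟩ := Finset.mem_erase.1 hs
    rw [Finset.mem_range] at hs
    rcases Nat.lt_or_ge d s with h | h
    · have hm0 : m = 0 := by omega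
      subst hm0
      simp at hN
      omega
    · rw [if_pos h, lcoeff_apply, inf_coeff r a (N - s) (d - s) (by omega), if_pos (by omega), sub_ne_zero]
      intro hcast
      rw [← Nat.cast_sum, Nat.cast_inj] at hcast
      omega
  span := by
    classical
    rw [V_eq r a hr b, ← hN]
    have hsum : P r a = ∑ s ∈ Finset.range (N + 1), (P r a).coeff (N - s) • X ^ (N - s) := by
      conv_lhs => rw [(P r a).as_sum_range_C_mul_X_pow' (n := N + 1) (by rw [natDegree_P]; omega)]
      rw [← Finset.sum_range_reflect]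
      simp only [smul_eq_C_mul, Nat.add_sub_cancel]
    refine map_le_span_erase (fun s => X ^ (N - s)) N b _ _ ?_ (Φ r a) (Φ_P r a) _ hsum (by omega) ?_
    · rw [degreeLT_eq_span_X_pow]
      refine Submodule.span_mono ?_
      intro x hx
      obtain ⟨l, hl, rfl⟩ := Finset.mem_image.1 (Finset.mem_coe.1 hx)
      rw [Finset.mem_range] at hl
      exact ⟨N - l, Finset.mem_range.2 (by omega), congrArg (X ^ ·) (by omega)⟩
    · rw [show N - b = (P r a).natDegree by rw [natDegree_P]; omega, (monic_P r a).coeff_natDegree]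
      exact one_ne_zero
  fil h hh n := by
    rw [V_eq r a hr b] at hh
    obtain ⟨Q, hQ, rfl⟩ := hh
    rw [Polynomial.mem_degreeLT, degree_lt_iff_coeff_zero]
    have hbig : ∀ t, d + 1 ≤ t → (Φ r a Q).coeff t = 0 := by
      intro t ht
      classical
      have hQ' : Q ∈ Submodule.span k
          ((Finset.image (fun n => X ^ n) (Finset.range ((∑ j, a j) + b + 1)) : Finset k[X]) : Set k[X]) := by
        rw [← degreeLT_eq_span_X_pow]; exact hQ
      clear hQ
      induction hQ' using Submodule.span_induction with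
      | mem x hx =>
        obtain ⟨u, hu, rfl⟩ := Finset.mem_image.1 (Finset.mem_coe.1 hx)
        rw [Finset.mem_range] at hu
        rw [inf_coeff r a u t (by omega), if_neg (by omega)]
      | zero => simp
      | add x y _ _ hx hy => rw [map_add, coeff_add, hx, hy, add_zero]
      | smul c x _ hx => rw [map_smul, coeff_smul, hx, smul_zero]
    constructor
    · intro hh t ht
      split_ifs with h
      · exact hh (d - t) (by omega)
      · rfl
    · intro hh t ht
      rcases Nat.lt_or_ge d t with h | h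
      · exact hbig t h
      · have := hh (d - t) (by omega)
        rw [if_pos (by omega), show d - (d - t) = t by omega] at this
        exact this

omit [CharZero k] in
/-- Two consecutive powers cannot both be killed at an unmarked point. -/
theorem eval_ne (p x : k) (hx : p ≠ x) (hp : ∀ j, p ≠ r j) (s : ℕ)
    (h0 : (Φ r a ((X - C x) ^ s)).eval p = 0) (h1 : (Φ r a ((X - C x) ^ (s + 1))).eval p = 0) : False := by
  rw [Φ_apply, eval_sub, eval_mul, eval_mul, derivative_X_sub_C_pow] at h0 h1
  simp only [eval_mul, eval_C, eval_pow, eval_sub, eval_X, Nat.add_sub_cancel, Nat.cast_add, Nat.cast_one] at h0 h1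
  have : (R r).eval p * (p - x) ^ s = 0 := by
    rcases Nat.eq_zero_or_pos s with h | h
    · subst h
      simp only [Nat.cast_zero, zero_mul, mul_zero, pow_zero, mul_one, zero_sub, neg_eq_zero] at h0
      simp only [Nat.cast_zero, zero_add, pow_zero, pow_one, mul_one, h0, zero_mul, sub_zero] at h1
      rw [pow_zero, mul_one, h1]
    · obtain ⟨c, rfl⟩ := Nat.exists_eq_add_of_le h
      simp only [Nat.add_sub_cancel_left, Nat.cast_add, Nat.cast_one, pow_succ, pow_add, pow_one] at h0 h1 ⊢
      linear_combination h1 - (p - x) * h0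
  rcases mul_eq_zero.1 this with h | h
  · exact R_eval_ne r p hp h
  · exact pow_ne_zero _ (sub_ne_zero.2 hx) h

end Groth.L28.PolarOrders
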